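import Mathlib

/-! A Zariski sheaf on `S`-schemes covered by open representable subfunctors is representable. -/

set_option autoImplicit false
set_option backward.isDefEq.respectTransparency false
set_option backward.isDefEq.respectTransparency.types false
universe u

open CategoryTheory CategoryTheory.Limits AlgebraicGeometry Opposite

namespace Groth.Agent.OverRep

variable {S : Scheme.{u}} (F : (Over S)ᵒᵖ ⥤ Type u)

theorem sigma_eq {T : Scheme.{u}} {s s' : T ⟶ S} (h : s = s') (e : F.obj (op (Over.mk s))) (e' : F.obj (op (Over.mk s')))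
    (he : F.map (Over.homMk (𝟙 T) (by simp [h]) : Over.mk s ⟶ Over.mk s').op e' = e) :
    (⟨s, e⟩ : Σ s : T ⟶ S, F.obj (op (Over.mk s))) = ⟨s', e'⟩ := by
  subst h
  rw [show (Over.homMk (𝟙 T) (by simp) : Over.mk s ⟶ Over.mk s) = 𝟙 _ from Over.OverMorphism.ext rfl, op_id, F.map_id] at he
  exact congrArg (Sigma.mk s) he.symm

/-- The presheaf on schemes of pairs of a structure morphism and a section. -/
noncomputable def total : Scheme.{u}ᵒᵖ ⥤ Type u where
  obj T := Σ s : unop T ⟶ S, F.obj (op (Over.mk s))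
  map {T T'} t := TypeCat.ofHom fun p =>
    ⟨t.unop ≫ p.1, F.map (Over.homMk t.unop : Over.mk (t.unop ≫ p.1) ⟶ Over.mk p.1).op p.2⟩
  map_id T := ConcreteCategory.hom_ext _ _ fun p =>
    sigma_eq F (Category.id_comp _) _ _ rfl
  map_comp t t' := ConcreteCategory.hom_ext _ _ fun p => by
    refine sigma_eq F (Category.assoc _ _ _) _ _ ?_
    change F.map _ (F.map _ (F.map _ p.2)) = F.map _ p.2
    rw [← ConcreteCategory.comp_apply, ← F.map_comp, ← ConcreteCategory.comp_apply, ← F.map_comp]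
    congr 2

variable {F}

theorem total_map_mk {Y' Y : Over S} (g : Y' ⟶ Y) (e : F.obj (op Y)) :
    (total F).map g.left.op ⟨Y.hom, e⟩ = ⟨Y'.hom, F.map g.op e⟩ := by
  obtain ⟨T', ⟨⟩, s'⟩ := Y'
  obtain ⟨T, ⟨⟩, s⟩ := Y
  suffices aux : ∀ (t : T' ⟶ T) (s' : T' ⟶ S) (w : t ≫ s = s'),
      (total F).map t.op ⟨s, e⟩ = ⟨s', F.map (Over.homMk t w : Over.mk s' ⟶ Over.mk s).op e⟩ by
    exact aux g.left s' (Over.w g)
  rintro t _ rfl
  rfl

theorem snd_eq {T : Scheme.{u}} {s : T ⟶ S} {e e' : F.obj (op (Over.mk s))}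
    (h : (⟨s, e⟩ : (total F).obj (op T)) = ⟨s, e'⟩) : e = e' :=
  eq_of_heq (Sigma.mk.inj_iff.mp h).2

theorem isSheaf_total (hF : Presheaf.IsSheaf (Scheme.zariskiTopology.over S) F) :
    Presheaf.IsSheaf Scheme.zariskiTopology.{u} (total F) := by
  rw [isSheaf_iff_isSheaf_of_type] at hF ⊢
  intro T R hR x hx
  have hS : Presieve.IsSheaf Scheme.zariskiTopology.{u} (yoneda.obj S) :=
    GrothendieckTopology.Subcanonical.isSheaf_of_isRepresentable _
  let x₁ : Presieve.FamilyOfElements (yoneda.obj S) R.arrows := fun U f hf => (x f hf).1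
  have hx₁ : x₁.Compatible := fun U₁ U₂ W g₁ g₂ f₁ f₂ h₁ h₂ e => congrArg Sigma.fst (hx g₁ g₂ h₁ h₂ e)
  obtain ⟨s, hs, hsuniq⟩ := hS R hR x₁ hx₁
  let R' : Sieve (Over.mk s) := (Sieve.overEquiv (Over.mk s)).symm R
  have hR' : R' ∈ Scheme.zariskiTopology.over S (Over.mk s) := by
    rw [GrothendieckTopology.mem_over_iff]
    change (Sieve.overEquiv (Over.mk s)) ((Sieve.overEquiv (Over.mk s)).symm R) ∈ _
    rw [OrderIso.apply_symm_apply]
    exact hR
  have hmem : ∀ {Y : Over S} (g : Y ⟶ Over.mk s), R' g → R g.left := fun g hg => (Sieve.overEquiv_symm_iff R g).mp hg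
  have hy : ∀ {Y : Over S} (g : Y ⟶ Over.mk s) (hg : R' g), ∃ e : F.obj (op Y), x g.left (hmem g hg) = ⟨Y.hom, e⟩ := by
    intro Y g hg
    have h1 : (x g.left (hmem g hg)).1 = Y.hom := (hs g.left (hmem g hg)).symm.trans (Over.w g)
    generalize x g.left (hmem g hg) = p at h1
    obtain ⟨a, e⟩ := p
    let g0 : Y ⟶ Over.mk a := Over.homMk (𝟙 Y.left) ((Category.id_comp _).trans h1)
    refine ⟨F.map g0.op e, ?_⟩
    rw [← total_map_mk g0 e]
    change _ = (total F).map (𝟙 (op Y.left)) _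
    rw [(total F).map_id]
    rfl
  choose y hy using @hy
  have hyc : Presieve.FamilyOfElements.Compatible (fun Y g hg => y g hg : Presieve.FamilyOfElements F R'.arrows) := by
    intro Y₁ Y₂ W g₁ g₂ f₁ f₂ h₁ h₂ e
    refine snd_eq (s := W.hom) ?_
    have := hx g₁.left g₂.left (hmem f₁ h₁) (hmem f₂ h₂) (congrArg CommaMorphism.left e)
    rw [hy f₁ h₁, hy f₂ h₂] at this
    exact (total_map_mk g₁ _).symm.trans (this.trans (total_map_mk g₂ _))
  obtain ⟨z, hz, hzuniq⟩ := hF R' hR' _ hyc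
  refine ⟨⟨s, z⟩, fun U f hf => ?_, ?_⟩
  · let g : Over.mk (f ≫ s) ⟶ Over.mk s := Over.homMk f
    have hg : R' g := (Sieve.overEquiv_symm_iff R g).mpr hf
    refine (total_map_mk g z).trans ?_
    rw [show F.map g.op z = y g hg from hz g hg]
    exact (hy g hg).symm
  · rintro ⟨s', z'⟩ hz'
    obtain rfl : s' = s := hsuniq s' fun U f hf => congrArg Sigma.fst (hz' f hf)
    refine congrArg (Sigma.mk s') (hzuniq z' fun Y g hg => ?_)
    refine snd_eq (s := Y.hom) ?_
    rw [← total_map_mk g z']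
    exact (hz' g.left (hmem g hg)).trans (hy g hg)

theorem exists_representableBy_of_cover (hF : Presheaf.IsSheaf (Scheme.zariskiTopology.over S) F)
    {ι : Type u} (Z : ι → Over S) (e : ∀ i, F.obj (op (Z i)))
    (hinj : ∀ (i : ι) (T : Over S) (a b : T ⟶ Z i), F.map a.op (e i) = F.map b.op (e i) → a = b)
    (hopen : ∀ (i : ι) (T : Over S) (s : F.obj (op T)), ∃ V : T.left.Opens, ∀ (T' : Over S) (t : T' ⟶ T),
      (∃ a : T' ⟶ Z i, F.map a.op (e i) = F.map t.op s) ↔ Set.range t.left ⊆ V)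
    (hcov : ∀ (T : Over S) (s : F.obj (op T)) (p : T.left), ∃ (i : ι) (T' : Over S) (t : T' ⟶ T) (a : T' ⟶ Z i),
      IsOpenImmersion t.left ∧ p ∈ Set.range t.left ∧ F.map a.op (e i) = F.map t.op s) :
    ∃ Y : Over S, Nonempty (F.RepresentableBy Y) := by
  let Gs : Sheaf Scheme.zariskiTopology.{u} (Type u) := ⟨total F, isSheaf_total hF⟩
  let f : ∀ i, yoneda.obj (Z i).left ⟶ Gs.1 := fun i => yonedaEquiv.symm ⟨(Z i).hom, e i⟩
  have hf_app : ∀ i {W : Over S} (a : W ⟶ Z i), (f i).app (op W.left) a.left = ⟨W.hom, F.map a.op (e i)⟩ :=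
    fun i W a => total_map_mk a (e i)
  have hf_app' : ∀ i {W : Scheme.{u}} (c : W ⟶ (Z i).left),
      (f i).app (op W) c = ⟨c ≫ (Z i).hom, F.map (Over.homMk c : Over.mk (c ≫ (Z i).hom) ⟶ Z i).op (e i)⟩ :=
    fun i W c => hf_app i (Over.homMk c : Over.mk (c ≫ (Z i).hom) ⟶ Z i)
  have hf : ∀ i, IsOpenImmersion.presheaf (f i) := by
    intro i
    refine MorphismProperty.relative.of_exists fun T g => ?_
    obtain ⟨⟨s, x⟩, hg⟩ : ∃ p, g = yonedaEquiv.symm p := ⟨_, (Equiv.symm_apply_apply _ g).symm⟩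
    obtain ⟨V, hV⟩ := hopen i (Over.mk s) x
    let t : Over.mk (Scheme.Opens.ι V ≫ s) ⟶ Over.mk s := Over.homMk (Scheme.Opens.ι V)
    obtain ⟨a, ha⟩ := (hV _ t).mpr (by rw [← Scheme.Opens.range_ι V]; rfl)
    have hg' : ∀ {W : Over S} (d : W ⟶ Over.mk s), g.app (op W.left) d.left = ⟨W.hom, F.map d.op x⟩ := fun d => by
      subst hg
      exact total_map_mk d x
    refine ⟨_, yoneda.map a.left, Scheme.Opens.ι V, IsPullback.of_forall_isPullback_app fun W => ?_, inferInstance⟩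
    obtain ⟨W⟩ := W
    rw [CategoryTheory.Limits.Types.isPullback_iff]
    refine ⟨?_, ?_, ?_⟩
    · ext l
      let d : Over.mk (l ≫ Scheme.Opens.ι V ≫ s) ⟶ Over.mk (Scheme.Opens.ι V ≫ s) := Over.homMk l
      change (f i).app _ (d ≫ a).left = g.app _ (d ≫ t).left
      refine (hf_app i (d ≫ a)).trans (Eq.trans ?_ (hg' (d ≫ t)).symm)
      rw [op_comp, op_comp, F.map_comp, F.map_comp, ConcreteCategory.comp_apply, ConcreteCategory.comp_apply, ha]
    · intro l₁ l₂ h
      exact (cancel_mono (Scheme.Opens.ι V)).mp h.2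
    · intro c d h
      have h' := h
      change (f i).app _ c = g.app _ (Over.homMk d : Over.mk (d ≫ s) ⟶ Over.mk s).left at h'
      replace h' := ((hf_app' i c).symm.trans h').trans (hg' (Over.homMk d : Over.mk (d ≫ s) ⟶ Over.mk s))
      have h1 : c ≫ (Z i).hom = d ≫ s := congrArg Sigma.fst h'
      let c' : Over.mk (d ≫ s) ⟶ Z i := Over.homMk c h1
      have h2 : F.map c'.op (e i) = F.map (Over.homMk d : Over.mk (d ≫ s) ⟶ Over.mk s).op x := by
        refine snd_eq (s := d ≫ s) ((hf_app i c').symm.trans ?_)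
        exact (hf_app' i c).trans h'
      have hr := (hV _ _).mp ⟨c', h2⟩
      let l := IsOpenImmersion.lift (Scheme.Opens.ι V) d (by rw [Scheme.Opens.range_ι]; exact hr)
      have hl : l ≫ Scheme.Opens.ι V = d := IsOpenImmersion.lift_fac _ _ _
      let l' : Over.mk (d ≫ s) ⟶ Over.mk (Scheme.Opens.ι V ≫ s) := Over.homMk l (by simp [reassoc_of% hl])
      refine ⟨l, ?_, hl⟩
      have : c' = l' ≫ a := hinj i _ _ _ (by
        rw [h2, show (Over.homMk d : Over.mk (d ≫ s) ⟶ Over.mk s) = l' ≫ t from Over.OverMorphism.ext hl.symm,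
          op_comp, op_comp, F.map_comp, F.map_comp, ConcreteCategory.comp_apply, ConcreteCategory.comp_apply, ha])
      exact (congrArg CommaMorphism.left this).symm
  have : Presheaf.IsLocallySurjective Scheme.zariskiTopology.{u} (Sigma.desc f) := by
    refine ⟨fun {U} p => ?_⟩
    obtain ⟨s, x⟩ := p
    choose i T' t a h1 h2 h3 using hcov (Over.mk s) x
    refine GrothendieckTopology.superset_covering _ ?_
      (Scheme.Cover.mem_grothendieckTopology (P := @IsOpenImmersion)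
        (Scheme.Cover.mkOfCovers U (fun p => (T' p).left) (fun p => (t p).left) (fun p => ⟨p, h2 p⟩) h1))
    rw [Sieve.generate_le_iff]
    rintro _ _ ⟨p⟩
    refine ⟨(Sigma.ι (fun i => yoneda.obj (Z i).left) (i p)).app _ (a p).left, ?_⟩
    rw [← ConcreteCategory.comp_apply, ← NatTrans.comp_app, Sigma.ι_desc]
    refine (hf_app (i p) (a p)).trans ?_
    rw [h3 p]
    exact (total_map_mk (t p) x).symm
  obtain ⟨Y, ⟨r⟩⟩ := Scheme.LocalRepresentability.isRepresentable hf
  obtain ⟨⟨π, u⟩, hu⟩ : ∃ p : (total F).obj (op Y), p = r.homEquiv (𝟙 Y) := ⟨_, rfl⟩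
  have hr : ∀ {T : Over S} (g : T.left ⟶ Y), r.homEquiv g = (total F).map g.op ⟨π, u⟩ := fun g => by
    rw [hu]
    exact r.homEquiv_eq g
  refine ⟨Over.mk π, ⟨{
    homEquiv := fun {T} => Equiv.ofBijective (fun g => F.map g.op u) ⟨?_, ?_⟩
    homEquiv_comp := fun f g => ?_ }⟩⟩
  · intro g₁ g₂ h
    refine Over.OverMorphism.ext (r.homEquiv.injective ?_)
    rw [hr, hr]
    exact (total_map_mk g₁ u).trans ((congrArg (Sigma.mk T.hom) h).trans (total_map_mk g₂ u).symm)
  · intro x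
    obtain ⟨g, hg⟩ := r.homEquiv.surjective (⟨T.hom, x⟩ : (total F).obj (op T.left))
    rw [hr] at hg
    refine ⟨Over.homMk g (congrArg Sigma.fst hg), ?_⟩
    exact snd_eq (s := T.hom) ((total_map_mk (Over.homMk g (congrArg Sigma.fst hg) : T ⟶ Over.mk π) u).symm.trans hg)
  · change F.map (f ≫ g).op u = F.map f.op (F.map g.op u)
    rw [op_comp, F.map_comp, ConcreteCategory.comp_apply]

end Groth.Agent.OverRep
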